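import Groth.Agent.Lib.RelProjK.MapProps
import Groth.Agent.Lib.SymAlgX.Glue
import Groth.Agent.Lib.QCoh.GenericPoint
import Groth.Prelude.Def_RelProj2
import Mathlib.AlgebraicGeometry.Morphisms.Finite

/-!
# `P(E) ⊔ P(F)` is closed in `P(E ⊕ F)`
-/

set_option autoImplicit false
set_option backward.isDefEq.respectTransparency false
set_option linter.style.haveILetI false

universe u

open CategoryTheory CategoryTheory.Limits AlgebraicGeometry TopologicalSpace Opposite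
open scoped HomogeneousIdeal

noncomputable section

namespace GrothLib.ProjSum8

/-- Two closed immersions with disjoint images give a closed immersion of the coproduct. -/
theorem isClosedImmersion_coprod_desc {A B C : Scheme.{u}} (a : A ⟶ C) (b : B ⟶ C) [IsClosedImmersion a]
    [IsClosedImmersion b] (hd : ∀ (x : A) (y : B), a x ≠ b y) : IsClosedImmersion (coprod.desc a b) := by
  haveI : IsFinite (coprod.desc a b) := inferInstance
  have hcov : ∀ z : (A ⨿ B : Scheme.{u}),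
      (∃ x, (coprod.inl : A ⟶ A ⨿ B) x = z) ∨ (∃ y, (coprod.inr : B ⟶ A ⨿ B) y = z) := fun z =>
    (Set.eq_univ_iff_forall.1 (isCompl_range_inl_inr A B).sup_eq_top z : _)
  have hl : ∀ x, coprod.desc a b ((coprod.inl : A ⟶ A ⨿ B) x) = a x := fun x => by
    rw [← Scheme.Hom.comp_apply, coprod.inl_desc]
  have hr : ∀ y, coprod.desc a b ((coprod.inr : B ⟶ A ⨿ B) y) = b y := fun y => by
    rw [← Scheme.Hom.comp_apply, coprod.inr_desc]
  have hinj : Function.Injective (coprod.desc a b).base := by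
    intro z z' h
    rcases hcov z with ⟨x, rfl⟩ | ⟨x, rfl⟩ <;> rcases hcov z' with ⟨y, rfl⟩ | ⟨y, rfl⟩
    · rw [hl, hl] at h; rw [a.isClosedEmbedding.injective h]
    · rw [hl, hr] at h; exact (hd x y h).elim
    · rw [hr, hl] at h; exact (hd y x h.symm).elim
    · rw [hr, hr] at h; rw [b.isClosedEmbedding.injective h]
  refine { stalkMap_surjective := fun z => ?_,
           isClosedEmbedding := .of_continuous_injective_isClosedMap (coprod.desc a b).continuous hinj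
            (coprod.desc a b).isClosedMap }
  have key : ∀ {W : Scheme.{u}} (i : W ⟶ A ⨿ B) [IsOpenImmersion i] (w : W)
      [SurjectiveOnStalks (i ≫ coprod.desc a b)], Function.Surjective ((coprod.desc a b).stalkMap (i w)) := by
    intro W i _ w _
    have h := (i ≫ coprod.desc a b).stalkMap_surjective w
    rw [Scheme.Hom.stalkMap_comp] at h
    have hi : Function.Injective (i.stalkMap w) := ((ConcreteCategory.isIso_iff_bijective _).1 inferInstance).1
    intro t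
    obtain ⟨s, hs⟩ := h (i.stalkMap w t)
    exact ⟨s, hi hs⟩
  rcases hcov z with ⟨x, rfl⟩ | ⟨y, rfl⟩
  · haveI : SurjectiveOnStalks (coprod.inl ≫ coprod.desc a b) := by rw [coprod.inl_desc]; infer_instance
    exact key coprod.inl x
  · haveI : SurjectiveOnStalks (coprod.inr ≫ coprod.desc a b) := by rw [coprod.inr_desc]; infer_instance
    exact key coprod.inr y

variable {Y : Scheme.{u}} {E F : Y.Modules} {𝒮E 𝒮F 𝒮 : RelProj.QCGrAlg Y}
  {jE : E ⟶ 𝒮E.toModule} {jF : F ⟶ 𝒮F.toModule} {j : E ⊞ F ⟶ 𝒮.toModule}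
  {πE : 𝒮.toQCAlg ⟶ 𝒮E.toQCAlg} {πF : 𝒮.toQCAlg ⟶ 𝒮F.toQCAlg}

theorem app_split (U : Y.Opens) (x : Γ(E ⊞ F, U)) :
    x = (biprod.inl : E ⟶ E ⊞ F).app U ((biprod.fst : E ⊞ F ⟶ E).app U x) +
      (biprod.inr : F ⟶ E ⊞ F).app U ((biprod.snd : E ⊞ F ⟶ F).app U x) := by
  conv_lhs => rw [show x = (𝟙 (E ⊞ F) : E ⊞ F ⟶ E ⊞ F).app U x from rfl, ← biprod.total]
  rfl

theorem π_j {G : Y.Modules} {𝒢 : RelProj.QCGrAlg Y} {k : G ⟶ 𝒢.toModule} {π : 𝒮.toQCAlg ⟶ 𝒢.toQCAlg}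
    {q : E ⊞ F ⟶ G} (h : j ≫ RelSpec.QCAlg.Hom.toModuleMap π = q ≫ k) (U : Y.Opens) (x : Γ(E ⊞ F, U)) :
    (π.hom.app (op U)).hom (show 𝒮.presheaf.obj (op U) from j.app U x) =
      (show 𝒢.presheaf.obj (op U) from k.app U (q.app U x)) :=
  congrArg (fun f : E ⊞ F ⟶ 𝒢.toModule => (show 𝒢.presheaf.obj (op U) from f.app U x)) h

theorem surjective_π {G : Y.Modules} (hG : Coh.IsQCoh G) {𝒢 : RelProj.QCGrAlg Y} {k : G ⟶ 𝒢.toModule}
    (hk : RelProj.IsGrSymAlg G 𝒢 k) {π : 𝒮.toQCAlg ⟶ 𝒢.toQCAlg} {q : E ⊞ F ⟶ G} (s : G ⟶ E ⊞ F) (hs : s ≫ q = 𝟙 G)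
    (h : j ≫ RelSpec.QCAlg.Hom.toModuleMap π = q ≫ k) (U : Y.Opens) (hU : IsAffineOpen U) :
    Function.Surjective (π.hom.app (op U)).hom := by
  obtain ⟨e, hes, hej⟩ := SymAlgX.isAffSym_of_isSymAlg hG hk.1 U hU
  intro y
  obtain ⟨a, rfl⟩ := e.surjective y
  induction a using SymmetricAlgebra.induction with
  | algebraMap r =>
    exact ⟨(𝒮.str.app (op U)).hom r,
      (ConcreteCategory.congr_hom (NatTrans.congr_app π.comm (op U)) r).trans (hes r).symm⟩
  | ι x =>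
    refine ⟨show 𝒮.presheaf.obj (op U) from j.app U (s.app U x), ?_⟩
    rw [π_j h]
    refine Eq.trans ?_ (hej x).symm
    show (show 𝒢.presheaf.obj (op U) from k.app U ((s ≫ q).app U x)) = _
    rw [hs]
    rfl
  | mul a b ha hb =>
    obtain ⟨p, hp⟩ := ha; obtain ⟨p', hp'⟩ := hb
    exact ⟨p * p', by rw [map_mul, map_mul, hp, hp']⟩
  | add a b ha hb =>
    obtain ⟨p, hp⟩ := ha; obtain ⟨p', hp'⟩ := hb
    exact ⟨p + p', by rw [map_add, map_add, hp, hp']⟩

variable (hjπE : j ≫ RelSpec.QCAlg.Hom.toModuleMap πE = biprod.fst ≫ jE)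
  (hjπF : j ≫ RelSpec.QCAlg.Hom.toModuleMap πF = biprod.snd ≫ jF)

include hjπE hjπF in
/-- No homogeneous prime lies over both. -/
theorem no_common_prime [(E ⊞ F).IsQuasicoherent] (hj : RelProj.IsGrSymAlg (E ⊞ F) 𝒮 j) (U : Y.Opens) (hU : IsAffineOpen U)
    (q : ProjectiveSpectrum (𝒮.deg U hU))
    (hE : RingHom.ker (πE.hom.app (op U)).hom ≤ q.asHomogeneousIdeal.toIdeal)
    (hF : RingHom.ker (πF.hom.app (op U)).hom ≤ q.asHomogeneousIdeal.toIdeal) : False := by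
  classical
  let Q := q.asHomogeneousIdeal.toIdeal
  have hgen : ∀ x : Γ(E ⊞ F, U), (show 𝒮.presheaf.obj (op U) from j.app U x) ∈ Q := by
    intro x
    rw [app_split U x, map_add]
    refine Ideal.add_mem _ (hF ?_) (hE ?_)
    · rw [RingHom.mem_ker, π_j hjπF]
      show (show 𝒮F.presheaf.obj (op U) from jF.app U (((biprod.inl : E ⟶ E ⊞ F) ≫ biprod.snd).app U _)) = 0
      rw [biprod.inl_snd]
      exact map_zero _
    · rw [RingHom.mem_ker, π_j hjπE]
      show (show 𝒮E.presheaf.obj (op U) from jE.app U (((biprod.inr : F ⟶ E ⊞ F) ≫ biprod.fst).app U _)) = 0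
      rw [biprod.inr_fst]
      exact map_zero _
  obtain ⟨e, hes, hej⟩ := SymAlgX.isAffSym_of_isSymAlg (E := E ⊞ F) ‹_› hj.1 U hU
  have hdec : ∀ a : 𝒮.presheaf.obj (op U), ∃ r : Γ(Y, U), a - (𝒮.str.app (op U)).hom r ∈ Q := by
    intro a
    obtain ⟨a, rfl⟩ := e.surjective a
    induction a using SymmetricAlgebra.induction with
    | algebraMap r => exact ⟨r, by rw [hes]; simp⟩
    | ι x => exact ⟨0, by rw [hej, map_zero, sub_zero]; exact hgen x⟩
    | mul a b ha hb =>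
      obtain ⟨r, hr⟩ := ha; obtain ⟨r', hr'⟩ := hb
      refine ⟨r * r', ?_⟩
      rw [map_mul, map_mul, show e a * e b - (𝒮.str.app (op U)).hom r * (𝒮.str.app (op U)).hom r' =
        (e a - (𝒮.str.app (op U)).hom r) * e b + (𝒮.str.app (op U)).hom r * (e b - (𝒮.str.app (op U)).hom r') by ring]
      exact Ideal.add_mem _ (Ideal.mul_mem_right _ _ hr) (Ideal.mul_mem_left _ _ hr')
    | add a b ha hb =>
      obtain ⟨r, hr⟩ := ha; obtain ⟨r', hr'⟩ := hb
      refine ⟨r + r', ?_⟩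
      rw [map_add, map_add, add_sub_add_comm]
      exact Ideal.add_mem _ hr hr'
  refine q.not_irrelevant_le ?_
  rw [HomogeneousIdeal.irrelevant_le]
  intro d hd a ha
  obtain ⟨r, hr⟩ := hdec a
  have h := q.asHomogeneousIdeal.isHomogeneous d hr
  have e1 : GradedRing.proj (𝒮.deg U hU) d (a - (𝒮.str.app (op U)).hom r) = a := by
    rw [map_sub, GradedRing.proj_apply, GradedRing.proj_apply, DirectSum.decompose_of_mem_same (𝒮.deg U hU) (show a ∈ 𝒮.deg U hU d from ha),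
      DirectSum.decompose_of_mem_ne (𝒮.deg U hU) (𝒮.str_mem U hU r) hd.ne, sub_zero]
  rw [← e1, GradedRing.proj_apply]
  exact h

variable {PE PF P : Scheme.{u}} {p : P ⟶ Y} {pE : PE ⟶ Y} {pF : PF ⟶ Y}
  {chart : ∀ (U : Y.Opens) (hU : IsAffineOpen U), ((p ⁻¹ᵁ U : P.Opens) : Scheme.{u}) ≅ Proj (𝒮.deg U hU)}
  {chartE : ∀ (U : Y.Opens) (hU : IsAffineOpen U), ((pE ⁻¹ᵁ U : PE.Opens) : Scheme.{u}) ≅ Proj (𝒮E.deg U hU)}
  {chartF : ∀ (U : Y.Opens) (hU : IsAffineOpen U), ((pF ⁻¹ᵁ U : PF.Opens) : Scheme.{u}) ≅ Proj (𝒮F.deg U hU)}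

/-- The main statement. -/
theorem isClosedImmersion_desc (hE : Coh.IsQCoh E) (hF : Coh.IsQCoh F)
    (hjE : RelProj.IsGrSymAlg E 𝒮E jE) (hjF : RelProj.IsGrSymAlg F 𝒮F jF) (hj : RelProj.IsGrSymAlg (E ⊞ F) 𝒮 j)
    (hjπE : j ≫ RelSpec.QCAlg.Hom.toModuleMap πE = biprod.fst ≫ jE)
    (hjπF : j ≫ RelSpec.QCAlg.Hom.toModuleMap πF = biprod.snd ≫ jF)
    {hπE : RelProj.IsGradedHom πE} {hπF : RelProj.IsGradedHom πF}
    {hirrE : ∀ (U : Y.Opens) (hU : IsAffineOpen U),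
      (𝒮E.deg U hU)₊ ≤ ((𝒮.deg U hU)₊).map (RelProj.gradedHomAt πE hπE U hU)}
    {hirrF : ∀ (U : Y.Opens) (hU : IsAffineOpen U),
      (𝒮F.deg U hU)₊ ≤ ((𝒮.deg U hU)₊).map (RelProj.gradedHomAt πF hπF U hU)}
    (hP : RelProj.IsRelProj 𝒮 p chart) (hPE : RelProj.IsRelProj 𝒮E pE chartE) (hPF : RelProj.IsRelProj 𝒮F pF chartF)
    {gE : PE ⟶ P} (hgE : RelProj.IsRelProjMap πE hπE hirrE chart chartE gE)
    {gF : PF ⟶ P} (hgF : RelProj.IsRelProjMap πF hπF hirrF chart chartF gF) :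
    IsClosedImmersion (coprod.desc gE gF) := by
  haveI : IsClosedImmersion gE := RelProjK.property_relProjMap @IsClosedImmersion hP hPE hgE fun U hU =>
    RelProjK.isClosedImmersion_map_of_surjective _ _
      (surjective_π hE hjE (π := πE) biprod.inl biprod.inl_fst hjπE U hU)
  haveI : IsClosedImmersion gF := RelProjK.property_relProjMap @IsClosedImmersion hP hPF hgF fun U hU =>
    RelProjK.isClosedImmersion_map_of_surjective _ _
      (surjective_π hF hjF (π := πF) biprod.inr biprod.inr_snd hjπF U hU)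
  refine isClosedImmersion_coprod_desc gE gF fun a b hab => ?_
  haveI : E.IsQuasicoherent := hE
  haveI : F.IsQuasicoherent := hF
  haveI : (E ⊞ F).IsQuasicoherent := Cohom.isQuasicoherent_biprod E F
  obtain ⟨_, ⟨U, hU, rfl⟩, hxU, -⟩ := Y.isBasis_affineOpens.exists_subset_of_mem_open (Set.mem_univ (p (gE a))) isOpen_univ
  have haU : a ∈ pE ⁻¹ᵁ U := by
    show pE a ∈ U
    rw [← RelProjK.relProjMap_comp hP hPE hgE]
    exact hxU
  have hbU : b ∈ pF ⁻¹ᵁ U := by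
    show pF b ∈ U
    rw [← RelProjK.relProjMap_comp hP hPF hgF]
    show p (gF b) ∈ U
    rw [← hab]
    exact hxU
  have ea := congr($(hgE U hU) ⟨a, haU⟩)
  have eb := congr($(hgF U hU) ⟨b, hbU⟩)
  simp only [Scheme.Hom.comp_apply] at ea eb
  have hq : (Proj.map (RelProj.gradedHomAt πE hπE U hU) (hirrE U hU)) ((chartE U hU).hom ⟨a, haU⟩) =
      (Proj.map (RelProj.gradedHomAt πF hπF U hU) (hirrF U hU)) ((chartF U hU).hom ⟨b, hbU⟩) := by
    refine ((chart U hU).inv ≫ (p ⁻¹ᵁ U).ι).isOpenEmbedding.injective ?_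
    exact ea.symm.trans (hab.trans eb)
  refine no_common_prime hjπE hjπF hj U hU
    ((Proj.map (RelProj.gradedHomAt πE hπE U hU) (hirrE U hU)) ((chartE U hU).hom ⟨a, haU⟩)) ?_ ?_
  · intro x hx
    show RelProj.gradedHomAt πE hπE U hU x ∈ ((chartE U hU).hom ⟨a, haU⟩).asHomogeneousIdeal.toIdeal
    rw [show RelProj.gradedHomAt πE hπE U hU x = 0 from hx]
    exact zero_mem _
  · intro x hx
    rw [hq]
    show RelProj.gradedHomAt πF hπF U hU x ∈ ((chartF U hU).hom ⟨b, hbU⟩).asHomogeneousIdeal.toIdeal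
    rw [show RelProj.gradedHomAt πF hπF U hU x = 0 from hx]
    exact zero_mem _

end GrothLib.ProjSum8
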